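import Mathlib
import Groth.Prelude.Def_W4c3irrattreebunCvg

/-!
Covering diagrams over a field and over its algebraic closure in the top field.
-/

set_option autoImplicit false
set_option linter.style.haveILetI false
set_option backward.isDefEq.respectTransparency false
universe u

open IntermediateField

namespace Groth.Agent.CvgBase

open W4c3irrattreebun

variable {k K : Type u} [Field k] [Field K] [Algebra k K]

/-- A diagram over the algebraic closure is a diagram over the base. -/
theorem exists_restrict {e : ℕ} (D : CovDiag.{u} (algebraicClosure k K) K e) :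
    ∃ D' : CovDiag.{u} k K e, Algebra.IsSeparable K D.KC → Algebra.IsSeparable K D'.KC := by
  letI : Algebra k D.KC := ((algebraMap K D.KC).comp (algebraMap k K)).toAlgebra
  haveI : IsScalarTower k K D.KC := IsScalarTower.of_algebraMap_eq fun _ => rfl
  letI : Algebra k D.KB := ((algebraMap (algebraicClosure k K) D.KB).comp (algebraMap k (algebraicClosure k K))).toAlgebra
  haveI : IsScalarTower k D.KB D.KC := IsScalarTower.of_algebraMap_eq fun c => by
    show algebraMap K D.KC (algebraMap k K c) = algebraMap D.KB D.KC (algebraMap (algebraicClosure k K) D.KB (algebraMap k (algebraicClosure k K) c))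
    have hB := @IsScalarTower.algebraMap_apply (algebraicClosure k K) D.KB D.KC _ _ _ D.algkB D.algBC
      D.algkC D.towerB (algebraMap k (algebraicClosure k K) c)
    have hK := @IsScalarTower.algebraMap_apply (algebraicClosure k K) K D.KC _ _ _ _ D.algKC
      D.algkC D.towerK (algebraMap k (algebraicClosure k K) c)
    exact (hK.symm.trans hB : _)
  exact ⟨{ KC := D.KC, KB := D.KB, t := D.t, transc := D.transc, finrank_eq := D.finrank_eq }, id⟩

/-- A diagram over the base gives one of no larger degree over the algebraic closure. -/
theorem exists_extend {e : ℕ} (D : CovDiag.{u} k K e) :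
    ∃ e' ≤ e, ∃ D' : CovDiag.{u} (algebraicClosure k K) K e',
      Algebra.IsSeparable K D.KC → Algebra.IsSeparable K D'.KC := by
  let S : Set D.KC := Set.range (algebraMap K D.KC ∘ (algebraMap (algebraicClosure k K) K))
  let B : IntermediateField D.KB D.KC := IntermediateField.adjoin D.KB S
  have hS : ∀ x ∈ S, IsIntegral D.KB x := by
    rintro _ ⟨a, rfl⟩
    have h1 : IsIntegral k (algebraMap K D.KC (a : K)) :=
      ((mem_algebraicClosure_iff'.1 a.2)).map (IsScalarTower.toAlgHom k K D.KC)
    exact h1.tower_top
  haveI : Algebra.IsAlgebraic D.KB B := IntermediateField.isAlgebraic_adjoin hS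
  let φ : algebraicClosure k K →+* B :=
    RingHom.codRestrict ((algebraMap K D.KC).comp (algebraMap (algebraicClosure k K) K)) B
      fun a => IntermediateField.subset_adjoin D.KB S ⟨a, rfl⟩
  letI : Algebra (algebraicClosure k K) B := φ.toAlgebra
  haveI : IsScalarTower (algebraicClosure k K) B D.KC := ⟨fun a x y => by
    show (φ a * x : B) • y = a • (x • y)
    rw [IntermediateField.smul_def, IntermediateField.smul_def, smul_eq_mul]
    rw [Algebra.smul_def (r := (a : K))]
    simp only [IntermediateField.smul_def, smul_eq_mul]
    push_cast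
    rw [mul_assoc]
    rfl⟩
  have htr : Transcendental B D.t := fun h => D.transc (h.restrictScalars D.KB)
  let L := IntermediateField.adjoin D.KB ({D.t} : Set D.KC)
  let L' := IntermediateField.adjoin B ({D.t} : Set D.KC)
  have hle : L ≤ L'.restrictScalars D.KB := by
    refine adjoin_le_iff.2 ?_
    rintro _ rfl
    exact IntermediateField.subset_adjoin B _ rfl
  haveI : Module.Finite L' D.KC := by
    letI : Algebra L L' := (RingHom.codRestrict (algebraMap L D.KC) L' fun x => hle x.2).toAlgebra
    haveI : IsScalarTower L L' D.KC := IsScalarTower.of_algebraMap_eq fun _ => rfl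
    exact Module.Finite.of_restrictScalars_finite L L' D.KC
  refine ⟨Module.finrank L' D.KC, ?_, { KC := D.KC, KB := B, t := D.t, transc := htr, finrank_eq := rfl }, id⟩
  letI : Algebra L L' := (RingHom.codRestrict (algebraMap L D.KC) L' fun x => hle x.2).toAlgebra
  haveI : IsScalarTower L L' D.KC := IsScalarTower.of_algebraMap_eq fun _ => rfl
  letI : Module L L' := Algebra.toModule
  letI : SMul L L' := Algebra.toSMul
  calc Module.finrank L' D.KC ≤ Module.finrank L D.KC := by
        haveI : Module.Finite L L' :=
          FiniteDimensional.of_injective (IsScalarTower.toAlgHom L L' D.KC).toLinearMap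
            (algebraMap L' D.KC).injective
        haveI : Module.Free L L' := Module.Free.of_divisionRing L L'
        haveI : Module.Free L' D.KC := Module.Free.of_divisionRing L' D.KC
        rw [← Module.finrank_mul_finrank L L' D.KC]
        exact Nat.le_mul_of_pos_left _ Module.finrank_pos
    _ = e := D.finrank_eq

/-- Least elements of two sets of naturals comparable in both directions agree. -/
theorem sInf_eq {s t : Set ℕ} (h₁ : t ⊆ s) (h₂ : ∀ e ∈ s, ∃ e' ≤ e, e' ∈ t) : sInf s = sInf t := by
  rcases s.eq_empty_or_nonempty with hs | hs
  · have ht : t = ∅ := Set.eq_empty_of_subset_empty (hs ▸ h₁)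
    rw [hs, ht]
  · obtain ⟨e', hle, he'⟩ := h₂ _ (Nat.sInf_mem hs)
    exact le_antisymm (Nat.sInf_le (h₁ (Nat.sInf_mem ⟨e', he'⟩))) ((Nat.sInf_le he').trans hle)

end Groth.Agent.CvgBase
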